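import Groth.Agent.BigPBC.Topology
import Groth.Agent.BigSiteLib.AcyclicDerived
import Mathlib

/-!
# Consequences of acyclicity for the forgetful functor
-/

set_option autoImplicit false
set_option backward.isDefEq.respectTransparency false
set_option backward.isDefEq.respectTransparency.types false
set_option backward.defeqAttrib.useBackward true
set_option linter.style.haveILetI false
set_option linter.unusedSectionVars false
set_option linter.auxLemma false
set_option maxHeartbeats 1000000

universe u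

open CategoryTheory CategoryTheory.Limits AlgebraicGeometry Opposite

noncomputable section

namespace Groth.Agent.BigPBC

open BigSiteLib

variable (K : Precoverage Scheme.{u}) [∀ S : Scheme.{u}, BigSite.AEtCont K S]
  [∀ S : Scheme.{u}, BigSite.EpsCont Scheme.etalePrecoverage K S]

/-- acyclic for the forgetful functor -/
def EAcyc {S : Scheme.{u}} (G : BigSite.Ab K S) : Prop := ∀ n, IsZero (((E K S).rightDerived (n + 1)).obj G)

theorem eAcyc_X₃ {S : Scheme.{u}} (X : ShortComplex (BigSite.Ab K S)) (hX : X.ShortExact) (hI : Injective X.X₂)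
    (h : EAcyc K X.X₁) : Epi ((E K S).map X.g) ∧ EAcyc K X.X₃ := by
  refine ⟨epi_map_of_isZero (E K S) hX (h 0), fun n => ?_⟩
  haveI := hI
  obtain ⟨e⟩ := nonempty_shift (E K S) hX n (Functor.isZero_rightDerived_obj_injective_succ _ _ _)
    (Functor.isZero_rightDerived_obj_injective_succ _ _ _)
  exact (h (n + 1)).of_iso e

theorem resEt_step {S : Scheme.{u}} (X : ShortComplex (BigSite.Ab K S)) (hX : X.ShortExact) (hI : Injective X.X₂)
    (h : EAcyc K X.X₁) : Epi ((BigSite.resEt K S).map X.g) ∧ EAcyc K X.X₃ := by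
  obtain ⟨h1, h2⟩ := eAcyc_X₃ K X hX hI h
  refine ⟨?_, h2⟩
  haveI := h1
  haveI : (BigSite.resEt Scheme.etalePrecoverage S).IsLeftAdjoint :=
    (BigSite.iEtAdj Scheme.etalePrecoverage S).isLeftAdjoint
  exact ((MorphismProperty.epimorphisms _).arrow_mk_iso_iff
    (((Functor.mapArrowFunctor _ _).mapIso (resEps K S)).app (Arrow.mk X.g))).mp
      (inferInstanceAs (Epi ((BigSite.resEt Scheme.etalePrecoverage S).map ((E K S).map X.g))))

/-- Restriction to the small étale site has no higher derived functors on acyclic sheaves. -/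
theorem isZero_RresEt {S : Scheme.{u}} (G : BigSite.Ab K S) (hG : EAcyc K G) (n : ℕ) :
    IsZero (((BigSite.resEt K S).rightDerived (n + 1)).obj G) :=
  isZero_rightDerived_of_class (BigSite.resEt K S) (EAcyc K) (resEt_step K) G hG n

/-- Cohomology of acyclic sheaves is étale cohomology. -/
theorem nonempty_H {S : Scheme.{u}} (G : BigSite.Ab K S) (hG : EAcyc K G) (p : ℕ) :
    Nonempty (EtCoh.H S ((BigSite.resEt K S).obj G) p ≃+ BigSite.H K S G p) := by
  have hC : IsTerminal (EtCoh.top S) := MorphismProperty.Over.mkIdTerminal _ S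
  have hD : IsTerminal ((EtFppf.a S).obj (EtCoh.top S)) := Over.mkIdTerminal
  let eC := fun G => AddEquiv.trans ((constantSheafAdj S.smallEtaleTopology AddCommGrpCat.{u + 1} hC).homAddEquiv
    (AddCommGrpCat.of (ULift ℤ)) G) (AddCommGrpCat.uliftZMultiplesAddEquiv _)
  let eD := fun G => AddEquiv.trans ((constantSheafAdj (QuotSh.J K S) AddCommGrpCat.{u + 1} hD).homAddEquiv
    (AddCommGrpCat.of (ULift ℤ)) G) (AddCommGrpCat.uliftZMultiplesAddEquiv _)
  refine nonempty_ext_equiv_of_class (BigSite.resEt K S) (EAcyc K) (resEt_step K)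
    (fun I hI => haveI := hI; BigSiteLib.injective_resEt K S I) _ _
    (fun G => (eC _).trans (eD G).symm) ?_ p _ hG
  intro G G' g x
  apply (eD G').injective
  have hCg : eC _ (x ≫ (BigSite.resEt K S).map g) =
      g.hom.app (op ((EtFppf.a S).obj (EtCoh.top S))) (eC _ x) := by
    simp only [eC, AddEquiv.trans_apply]; rfl
  have hDg : ∀ y : _ ⟶ G, eD G' (y ≫ g) = g.hom.app (op ((EtFppf.a S).obj (EtCoh.top S))) (eD G y) := fun y => by
    simp only [eD, AddEquiv.trans_apply]; rfl
  exact ((eD G').apply_symm_apply _).trans (hCg.trans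
    ((congrArg (g.hom.app (op ((EtFppf.a S).obj (EtCoh.top S)))) ((eD G).apply_symm_apply _)).symm.trans (hDg _).symm))

variable (hPi : ∀ (S : Scheme.{u}) (F : EtCoh.Ab S), Presheaf.IsSheaf (QuotSh.J K S) (Pi F).obj)

include hPi in
/-- Restricting an inverse image gives back the sheaf. -/
theorem nonempty_resPi (S : Scheme.{u}) :
    Nonempty (BigSite.piEtPull K S ⋙ BigSite.resEt K S ≅ 𝟭 (EtCoh.Ab S)) := by
  haveI : ∀ F, IsIso ((BigSite.piEtAdj Scheme.etalePrecoverage S).unit.app F) := fun F =>
    isIso_unit_sheafPullback S.smallEtaleTopology (QuotSh.J Scheme.etalePrecoverage S) (EtFppf.a S)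
      AddCommGrpCat.{u + 1} F
  haveI := NatIso.isIso_of_isIso_app (BigSite.piEtAdj Scheme.etalePrecoverage S).unit
  exact ⟨Functor.isoWhiskerLeft _ (resEps K S).symm ≪≫ (Functor.associator _ _ _).symm ≪≫
    Functor.isoWhiskerRight (piIso K hPi S) _ ≪≫ (asIso (BigSite.piEtAdj Scheme.etalePrecoverage S).unit).symm⟩

include hPi in
theorem isIso_unit (S : Scheme.{u}) (F : EtCoh.Ab S) : IsIso ((BigSite.piEtAdj K S).unit.app F) := by
  obtain ⟨e⟩ := nonempty_resPi K hPi S
  haveI := (BigSite.piEtAdj K S).isIso_unit_of_iso e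
  infer_instance

include hPi in
theorem nonempty_H_pi (S : Scheme.{u}) (F : EtCoh.Ab S) (hA : EAcyc K ((BigSite.piEtPull K S).obj F)) (p : ℕ) :
    Nonempty (EtCoh.H S F p ≃+ BigSite.H K S ((BigSite.piEtPull K S).obj F) p) := by
  obtain ⟨e⟩ := nonempty_resPi K hPi S
  obtain ⟨h⟩ := nonempty_H K _ hA p
  exact ⟨((EtCoh.HF S p).mapIso (e.app F).symm).addCommGroupIsoToAddEquiv.trans h⟩

variable {T S : Scheme.{u}} (f : T ⟶ S)

/-- acyclic for the forgetful functor and for direct image on the big étale site -/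
def PAcyc (G : BigSite.Ab K T) : Prop :=
  EAcyc K G ∧ ∀ n, IsZero ((BigSite.RpushBig Scheme.etalePrecoverage f (n + 1)).obj ((E K T).obj G))

theorem pushBig_step (X : ShortComplex (BigSite.Ab K T)) (hX : X.ShortExact) (hI : Injective X.X₂)
    (h : PAcyc K f X.X₁) : Epi ((BigSite.pushBig K f AddCommGrpCat.{u + 1}).map X.g) ∧ PAcyc K f X.X₃ := by
  haveI := pushBig_preservesFiniteLimits Scheme.etalePrecoverage f
  obtain ⟨h1, h2⟩ := eAcyc_X₃ K X hX hI h.1
  haveI := hI
  haveI : Injective (X.map (E K T)).X₂ := injective_E K T X.X₂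
  haveI : Epi (X.map (E K T)).g := h1
  haveI := hX.mono_f
  haveI : Mono (X.map (E K T)).f := inferInstanceAs (Mono ((E K T).map X.f))
  have hE : (X.map (E K T)).ShortExact :=
    { exact := hX.exact.map_of_mono_of_preservesKernel _ hX.mono_f inferInstance }
  refine ⟨?_, h2, fun n => ?_⟩
  · apply (E K S).epi_of_epi_map
    exact epi_map_of_isZero (BigSite.pushBig Scheme.etalePrecoverage f AddCommGrpCat.{u + 1}) hE (h.2 0)
  · obtain ⟨e⟩ := nonempty_shift (BigSite.pushBig Scheme.etalePrecoverage f AddCommGrpCat.{u + 1}) hE n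
      (Functor.isZero_rightDerived_obj_injective_succ _ _ _) (Functor.isZero_rightDerived_obj_injective_succ _ _ _)
    exact (h.2 (n + 1)).of_iso e

include hPi in
/-- Proper base change for the finer topology, given acyclicity of inverse images of torsion sheaves. -/
theorem nonempty_push [IsProper f] (hV : ∀ (F : EtCoh.Ab T), Tor F → EAcyc K ((BigSite.piEtPull K T).obj F))
    (F : EtCoh.Ab T) (hF : Tor F) (q : ℕ) :
    Nonempty ((BigSite.piEtPull K S).obj ((EtCoh.Rpush f q).obj F) ≅
      (BigSite.RpushBig K f q).obj ((BigSite.piEtPull K T).obj F)) := by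
  haveI := push_preservesFiniteLimits f
  haveI := pushBig_preservesFiniteLimits K f
  haveI := piEtPull_exact K S
  haveI := piEtPull_exact K T
  haveI := piEtPull_additive K S
  haveI := piEtPull_additive K T
  refine nonempty_compare (EtCoh.push f) (BigSite.pushBig K f AddCommGrpCat.{u + 1})
    (BigSite.piEtPull K T) (BigSite.piEtPull K S) (pushPi K f hPi) Tor (fun F hF => ?_) q F hF
  obtain ⟨X, hX, e, h3, hc, h2⟩ := exists_seq hF
  refine ⟨X, hX, e, h3, fun n => ⟨EtColimH.isZero_rpush_of_cac f n _ hc, ?_⟩⟩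
  exact isZero_rightDerived_of_class (BigSite.pushBig K f AddCommGrpCat.{u + 1}) (PAcyc K f) (pushBig_step K f) _
    ⟨hV _ h2, fun m => (isZero_RpushBig f hc h2 m).of_iso
      ((BigSite.RpushBig Scheme.etalePrecoverage f (m + 1)).mapIso ((piIso K hPi T).app X.X₂))⟩ n

end Groth.Agent.BigPBC
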