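import Groth.Agent.BigPBC.Topology
import Groth.Agent.BigSiteLib.PiGerm
import Groth.Agent.EtAcycX.Descend
import Groth.Agent.EtMV.HenselVanish
import Mathlib

/-!
# Torsion sheaves satisfy cohomological descent for proper surjective morphisms
-/

set_option autoImplicit false
set_option backward.isDefEq.respectTransparency false
set_option backward.isDefEq.respectTransparency.types false
set_option backward.defeqAttrib.useBackward true
set_option linter.style.haveILetI false
set_option linter.unusedSectionVars false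
set_option linter.auxLemma false
set_option maxHeartbeats 1000000
set_option synthInstance.maxHeartbeats 400000

universe u

open CategoryTheory CategoryTheory.Limits AlgebraicGeometry Opposite

noncomputable section

namespace Groth.Agent.BigPBC

open BigSiteLib

variable {S : Scheme.{u}}

/-- A section vanishing on étale neighbourhoods of all points is zero. -/
theorem eq_zero_of_nhds (G : BigSite.Ab Scheme.etalePrecoverage S) {U : Over S} (x : G.obj.obj (op U))
    (h : ∀ z : U.left, ∃ (Y : Over S) (g : Y ⟶ U), G.obj.map g.op x = 0 ∧ Etale g.left ∧ ∃ y, g.left y = z) :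
    x = 0 := by
  let R : Sieve U :=
    { arrows := fun Y g => G.obj.map g.op x = 0
      downward_closed := by
        intro Y Z g hg k
        change G.obj.map (k ≫ g).op x = 0
        rw [op_comp, Functor.map_comp, ConcreteCategory.comp_apply, hg, map_zero] }
  have hR : R ∈ QuotSh.J Scheme.etalePrecoverage S U := mem_J_of_nhds R h
  have hG := (isSheaf_iff_isSheaf_of_type _ _).mp
    ((sheafCompose (QuotSh.J Scheme.etalePrecoverage S) (forget AddCommGrpCat.{u + 1})).obj G).property
  refine (hG R hR).isSeparatedFor.ext fun Y g hg => ?_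
  change G.obj.map g.op x = G.obj.map g.op 0
  rw [map_zero]
  exact hg

variable (G : BigSite.Ab Scheme.etalePrecoverage S)

/-- Sieves for which a sheaf is universally separated. -/
def Sep {T : Scheme.{u}} (R : Sieve T) : Prop :=
  ∀ (U : Over S) (g : U.left ⟶ T) (x : G.obj.obj (op U)),
    (∀ ⦃Y : Over S⦄ (k : Y ⟶ U), R.arrows (k.left ≫ g) → G.obj.map k.op x = 0) → x = 0

/-- The topology of these sieves. -/
def sepTop : GrothendieckTopology Scheme.{u} where
  sieves T := Set.ofPred fun R : Sieve T => Sep G R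
  top_mem' T := fun U g x hx => by
    have h := hx (𝟙 U) trivial
    rwa [op_id, CategoryTheory.Functor.map_id] at h
  pullback_stable' := fun T T' R f hR U g x hx => hR U (g ≫ f) x fun Y k hk => hx k (by
    show R.arrows ((k.left ≫ g) ≫ f)
    rwa [Category.assoc])
  transitive' := fun T R hR R' hR' U g x hx => hR U g x fun Y k hk => hR' hk Y (𝟙 Y.left) _ fun Z l hl => by
    have hl' : R'.arrows ((l.left ≫ 𝟙 Y.left) ≫ k.left ≫ g) := hl
    rw [← ConcreteCategory.comp_apply, ← Functor.map_comp, ← op_comp]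
    refine hx (l ≫ k) ?_
    simpa using hl'

/-- Separatedness along proper surjective morphisms onto affines gives separatedness for the ph topology. -/
theorem phTopology_le_sepTop
    (h : ∀ (U : Over S), IsAffine U.left → ∀ ⦃V : Scheme.{u}⦄ (p : V ⟶ U.left) [IsProper p] [Surjective p]
      (x : G.obj.obj (op U)), G.obj.map (Over.homMk p : Over.mk (p ≫ U.hom) ⟶ U).op x = 0 → x = 0) :
    HTop.phTopology.{u} ≤ sepTop G := by
  refine Precoverage.toGrothendieck_le_iff_le_toPrecoverage.mpr fun T R hR => ?_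
  rw [GrothendieckTopology.mem_toPrecoverage_iff]
  obtain ⟨E, hE⟩ := hR
  intro U g x hx
  refine eq_zero_of_nhds G x fun z => ?_
  obtain ⟨_, ⟨W₀, hW, rfl⟩, hzW, -⟩ := T.isBasis_affineOpens.exists_subset_of_mem_open (Set.mem_univ (g z)) isOpen_univ
  let W : T.Opens := W₀
  obtain ⟨_, ⟨W'₀, hW', rfl⟩, hzW', hle⟩ :=
    U.left.isBasis_affineOpens.exists_subset_of_mem_open (show z ∈ g ⁻¹ᵁ W from hzW) (g ⁻¹ᵁ W).isOpen
  let W' : U.left.Opens := W'₀
  let g' : W'.toScheme ⟶ W.toScheme := g.resLE W W' hle
  let U' : Over S := Over.mk (W'.ι ≫ U.hom)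
  let j : U' ⟶ U := Over.homMk W'.ι
  obtain ⟨F, hF, hFE⟩ := hE.2 ⟨W, hW⟩
  obtain ⟨Z, π, ι, hπ, hs, hι, hιπ, hcov⟩ := hF.exists_proper
  haveI := hπ
  haveI := hs
  let pr : pullback g' π ⟶ W'.toScheme := pullback.fst g' π
  haveI : IsProper pr := MorphismProperty.pullback_fst _ _ ‹_›
  haveI : Surjective pr := MorphismProperty.pullback_fst _ _ ‹_›
  refine ⟨U', j, h U' hW' pr _ (eq_zero_of_nhds G _ fun v => ?_), inferInstanceAs (Etale W'.ι), ⟨z, hzW'⟩, rfl⟩
  let sn : pullback g' π ⟶ Z := pullback.snd g' π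
  obtain ⟨i₀, hi₀⟩ := hcov (sn v)
  haveI := hι i₀
  let O : (pullback g' π : Scheme.{u}).Opens := sn ⁻¹ᵁ (ι i₀).opensRange
  obtain ⟨i, m, hm⟩ := hFE i₀
  let l : O.toScheme ⟶ F.X i₀ := IsOpenImmersion.lift (ι i₀) (O.ι ≫ sn) (by
    rintro _ ⟨w, rfl⟩
    rw [Scheme.Hom.comp_apply]
    exact w.2)
  refine ⟨Over.mk (O.ι ≫ pr ≫ U'.hom), Over.homMk O.ι rfl, ?_, inferInstanceAs (Etale O.ι), ⟨v, hi₀⟩, rfl⟩
  rw [← ConcreteCategory.comp_apply, ← Functor.map_comp, ← op_comp, ← ConcreteCategory.comp_apply,
    ← Functor.map_comp, ← op_comp]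
  refine hx _ ⟨_, l ≫ m, E.f i, ⟨i⟩, ?_⟩
  change (l ≫ m) ≫ E.f i = ((O.ι ≫ pr) ≫ W'.ι) ≫ g
  calc (l ≫ m) ≫ E.f i = l ≫ F.f i₀ ≫ W.ι := by rw [Category.assoc, hm]
    _ = (l ≫ ι i₀) ≫ π ≫ W.ι := by rw [Category.assoc, ← Category.assoc (ι i₀) π, hιπ]
    _ = O.ι ≫ (sn ≫ π) ≫ W.ι := by rw [IsOpenImmersion.lift_fac]; simp only [Category.assoc]
    _ = O.ι ≫ (pr ≫ g') ≫ W.ι := by rw [pullback.condition]
    _ = ((O.ι ≫ pr) ≫ W'.ι) ≫ g := by
      simp only [Category.assoc]
      exact congrArg (O.ι ≫ pr ≫ ·) (Scheme.Hom.resLE_comp_ι g hle)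

/-- A sheaf embedded in a direct image has sections detected on the source. -/
theorem eq_zero_of_mono {W V : Scheme.{u}} (p : V ⟶ W) (G : BigSite.Ab Scheme.etalePrecoverage W)
    {H : BigSite.Ab Scheme.etalePrecoverage V}
    (m : G ⟶ (BigSite.pushBig Scheme.etalePrecoverage p AddCommGrpCat.{u + 1}).obj H) [Mono m]
    (x : G.obj.obj (op (Over.mk (𝟙 W))))
    (hx : G.obj.map (Over.homMk p : Over.mk p ⟶ Over.mk (𝟙 W)).op x = 0) : x = 0 := by
  haveI : Mono ((sheafToPresheaf _ _).map m) := inferInstance
  have hinj : Function.Injective (m.hom.app (op (Over.mk (𝟙 W)))) :=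
    (AddCommGrpCat.mono_iff_injective _).mp ((NatTrans.mono_iff_mono_app m.hom).mp
      (inferInstanceAs (Mono ((sheafToPresheaf _ _).map m))) _)
  apply hinj
  let q : Over.mk p ⟶ Over.mk (𝟙 W) := Over.homMk p
  let P := Over.pullback p
  have hnat : H.obj.map (P.map q).op (m.hom.app (op (Over.mk (𝟙 W))) x) = 0 :=
    (ConcreteCategory.congr_hom (m.hom.naturality q.op) x).symm.trans
      ((congrArg (m.hom.app (op (Over.mk p))) hx).trans (map_zero _))
  let sn : pullback (𝟙 W) p ⟶ V := pullback.snd (𝟙 W) p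
  let s : P.obj (Over.mk (𝟙 W)) ⟶ P.obj (Over.mk p) :=
    Over.homMk (pullback.lift sn sn rfl) (pullback.lift_snd sn sn rfl)
  have hs : s ≫ P.map q = 𝟙 _ := by
    refine Over.OverMorphism.ext ?_
    apply pullback.hom_ext
    · refine (Category.assoc _ _ _).trans ?_
      refine (congrArg (s.left ≫ ·) (pullback_map_fst q)).trans ?_
      refine (Category.assoc _ _ _).symm.trans ?_
      refine (congrArg (· ≫ p) (pullback.lift_fst sn sn rfl)).trans ?_
      exact pullback.condition.symm.trans ((Category.comp_id _).trans (Category.id_comp _).symm)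
    · refine (Category.assoc _ _ _).trans ?_
      refine (congrArg (s.left ≫ ·) (pullback.lift_snd _ _ _)).trans ?_
      exact (pullback.lift_snd sn sn rfl).trans (Category.id_comp _).symm
  have h1 := congrArg (H.obj.map s.op) hnat
  rw [← ConcreteCategory.comp_apply, ← Functor.map_comp, ← op_comp, hs, op_id, CategoryTheory.Functor.map_id,
    map_zero] at h1
  exact (show m.hom.app (op (Over.mk (𝟙 W))) x = 0 from h1).trans (map_zero _).symm

variable (K : Precoverage Scheme.{u}) [∀ S : Scheme.{u}, BigSite.AEtCont K S]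
  [∀ S : Scheme.{u}, BigSite.EpsCont Scheme.etalePrecoverage K S]

/-- Derived functors of the forgetful functor on direct images embed in direct images. -/
theorem exists_mono_push {W V : Scheme.{u}} (p : V ⟶ W) (n : ℕ) : ∀ B : BigSite.Ab K V,
    (∀ i < n, IsZero (((E K V).rightDerived (i + 1)).obj B)) →
    (∀ i ≤ n, IsZero ((BigSite.RpushBig Scheme.etalePrecoverage p (i + 1)).obj ((E K V).obj B))) →
    ∃ (H : BigSite.Ab Scheme.etalePrecoverage V)
      (m : ((E K W).rightDerived (n + 1)).obj ((BigSite.pushBig K p AddCommGrpCat.{u + 1}).obj B) ⟶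
        (BigSite.pushBig Scheme.etalePrecoverage p AddCommGrpCat.{u + 1}).obj H), Mono m := by
  haveI := pushBig_preservesFiniteLimits Scheme.etalePrecoverage p
  haveI := pushBig_preservesFiniteLimits K p
  let Φ := BigSite.pushBig Scheme.etalePrecoverage p AddCommGrpCat.{u + 1}
  let Φ' := BigSite.pushBig K p AddCommGrpCat.{u + 1}
  have hinj : ∀ I : BigSite.Ab K V, Injective I → Injective (Φ'.obj I) := fun I hI => by
    haveI := hI
    haveI : (BigSite.pullBig K p AddCommGrpCat.{u + 1}).PreservesMonomorphisms := inferInstance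
    exact Injective.injective_of_adjoint (BigSite.bigAdj K p AddCommGrpCat.{u + 1}) I
  induction n with
  | zero =>
    intro B hB hp
    let X := SiteCoh.embedSeq B
    have hX : X.ShortExact := SiteCoh.embedSeq_shortExact B
    haveI : Injective X.X₂ := inferInstanceAs (Injective (Injective.under B))
    haveI := hX.mono_f
    haveI : Injective (Φ'.obj X.X₂) := hinj _ inferInstance
    haveI : Mono (Φ'.map X.f) := inferInstance
    let π := cokernel.π (Φ'.map X.f)
    let P : ShortComplex (BigSite.Ab K W) := ShortComplex.mk (Φ'.map X.f) π (cokernel.condition _)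
    have hP : P.ShortExact := { exact := ShortComplex.exact_of_g_is_cokernel _ (cokernelIsCokernel _) }
    obtain ⟨e⟩ := nonempty_one (E K W) hP (Functor.isZero_rightDerived_obj_injective_succ _ _ _)
    let k : cokernel (Φ'.map X.f) ⟶ Φ'.obj X.X₃ := cokernel.desc _ (Φ'.map X.g) (X.map Φ').zero
    haveI : Mono k := (hX.exact.map_of_mono_of_preservesKernel Φ' hX.mono_f inferInstance).mono_cokernelDesc
    haveI : Mono ((E K W).map k) := inferInstance
    haveI := mono_cokernel_map ((E K W).map π) ((E K W).map k)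
    have h1 : (E K W).map π ≫ (E K W).map k = (E K W).map (Φ'.map X.g) := by
      rw [← Functor.map_comp, cokernel.π_desc]
    let e1 : cokernel ((E K W).map π ≫ (E K W).map k) ≅ cokernel (Φ.map ((E K V).map X.g)) :=
      cokernel.mapIso _ _ ((pushEps K p).app X.X₂) ((pushEps K p).app X.X₃)
        ((congrArg (· ≫ ((pushEps K p).app X.X₃).hom) h1).trans ((pushEps K p).hom.naturality X.g))
    have hE : ((X.map (E K V))).Exact := hX.exact.map_of_mono_of_preservesKernel _ hX.mono_f inferInstance
    haveI : Mono ((E K V).map X.f) := inferInstance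
    haveI := mono_cokernelComparison Φ ((E K V).map X.f) ((E K V).map X.g) (X.map (E K V)).zero hE (hp 0 le_rfl)
    exact ⟨cokernel ((E K V).map X.g), e.hom ≫ cokernel.map ((E K W).map π) ((E K W).map π ≫ (E K W).map k) (𝟙 _)
      ((E K W).map k) (by rw [Category.id_comp]) ≫ e1.hom ≫ cokernelComparison ((E K V).map X.g) Φ, inferInstance⟩
  | succ n ih =>
    intro B hB hp
    let X := SiteCoh.embedSeq B
    have hX : X.ShortExact := SiteCoh.embedSeq_shortExact B
    haveI : Injective X.X₂ := inferInstanceAs (Injective (Injective.under B))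
    haveI := hX.mono_f
    haveI := hX.epi_g
    haveI hepi : Epi ((E K V).map X.g) := epi_map_of_isZero (E K V) hX (hB 0 (Nat.succ_pos n))
    haveI : Injective (X.map (E K V)).X₂ := injective_E K V X.X₂
    haveI : Epi (X.map (E K V)).g := hepi
    haveI : Mono (X.map (E K V)).f := inferInstanceAs (Mono ((E K V).map X.f))
    have hE : (X.map (E K V)).ShortExact :=
      { exact := hX.exact.map_of_mono_of_preservesKernel _ hX.mono_f inferInstance }
    have hB' : ∀ i < n, IsZero (((E K V).rightDerived (i + 1)).obj X.X₃) := fun i hi => by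
      obtain ⟨e⟩ := nonempty_shift (E K V) hX i (Functor.isZero_rightDerived_obj_injective_succ _ _ _)
        (Functor.isZero_rightDerived_obj_injective_succ _ _ _)
      exact (hB (i + 1) (Nat.succ_lt_succ hi)).of_iso e
    have hp' : ∀ i ≤ n, IsZero ((BigSite.RpushBig Scheme.etalePrecoverage p (i + 1)).obj ((E K V).obj X.X₃)) :=
      fun i hi => by
      obtain ⟨e⟩ := nonempty_shift Φ hE i (Functor.isZero_rightDerived_obj_injective_succ _ _ _)
        (Functor.isZero_rightDerived_obj_injective_succ _ _ _)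
      exact (hp (i + 1) (Nat.succ_le_succ hi)).of_iso e
    haveI : Epi (Φ'.map X.g) := by
      apply (E K W).epi_of_epi_map
      haveI : Epi (Φ.map ((E K V).map X.g)) := epi_map_of_isZero Φ hE (hp 0 (Nat.zero_le _))
      exact inferInstanceAs (Epi (Φ.map ((E K V).map X.g)))
    haveI : Injective (X.map Φ').X₂ := hinj _ inferInstance
    haveI : Epi (X.map Φ').g := inferInstanceAs (Epi (Φ'.map X.g))
    haveI : Mono (X.map Φ').f := inferInstanceAs (Mono (Φ'.map X.f))
    have hX' : (X.map Φ').ShortExact :=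
      { exact := hX.exact.map_of_mono_of_preservesKernel _ hX.mono_f inferInstance }
    obtain ⟨e⟩ := nonempty_shift (E K W) hX' n (Functor.isZero_rightDerived_obj_injective_succ _ _ _)
      (Functor.isZero_rightDerived_obj_injective_succ _ _ _)
    obtain ⟨H, m, hm⟩ := ih X.X₃ hB' hp'
    exact ⟨H, e.inv ≫ m, mono_comp _ _⟩

variable (hPi : ∀ (S : Scheme.{u}) (F : EtCoh.Ab S), Presheaf.IsSheaf (QuotSh.J K S) (Pi F).obj)
  (hK : K.toGrothendieck ≤ HTop.phTopology)

include hPi hK in
/-- **Cohomological descent**: inverse images of torsion sheaves are acyclic for the forgetful functor. -/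
theorem isZero_R_pi (n : ℕ) : ∀ (S : Scheme.{u}) (F : EtCoh.Ab S), Tor F →
    IsZero (((E K S).rightDerived (n + 1)).obj ((BigSite.piEtPull K S).obj F)) := by
  induction n using Nat.strong_induction_on with
  | _ n ih =>
  intro S F hF
  let G := ((E K S).rightDerived (n + 1)).obj ((BigSite.piEtPull K S).obj F)
  have hsep : ∀ (U : Over S), IsAffine U.left → ∀ ⦃V : Scheme.{u}⦄ (p : V ⟶ U.left) [IsProper p] [Surjective p]
      (x : G.obj.obj (op U)), G.obj.map (Over.homMk p : Over.mk (p ≫ U.hom) ⟶ U).op x = 0 → x = 0 := by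
    intro U _ V p _ _ x hx
    let W := U.left
    let F' : EtCoh.Ab W := (EtCoh.pull U.hom).obj F
    have hF' : Tor F' := EtAcycX.isLTorsion_pull U.hom hF
    obtain ⟨I, a, ha, hI, hI'⟩ := EtAcycX.exists_hullL Set.univ (EtAcycX.isLTorsion_pull p hF')
    haveI := push_preservesFiniteLimits p
    haveI := EtMV.mono_unit_of_surjective p F'
    haveI : Mono ((EtCoh.push p).map a) := inferInstance
    let α : F' ⟶ (EtCoh.push p).obj I := (EtCoh.pullPushAdj p).unit.app F' ≫ (EtCoh.push p).map a
    haveI : Mono α := mono_comp _ _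
    let Z : ShortComplex (EtCoh.Ab W) := ShortComplex.mk α (cokernel.π α) (cokernel.condition α)
    have hZ : Z.ShortExact := { exact := ShortComplex.exact_of_g_is_cokernel _ (cokernelIsCokernel _) }
    have hQ : Tor Z.X₃ := EtAcycX.isLTorsion_of_epi Set.univ (cokernel.π α) (EtColimH.locKilled_push (EtAcycX.exponents Set.univ) p hI')
    haveI := piEtPull_exact K W
    haveI := piEtPull_additive K W
    have hY : (Z.map (BigSite.piEtPull K W)).ShortExact := hZ.map_of_exact _
    have hm : Mono (((E K W).rightDerived (n + 1)).map ((BigSite.piEtPull K W).map α)) := by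
      match n, ih with
      | 0, _ =>
        haveI : Epi ((E K W).map (Z.map (BigSite.piEtPull K W)).g) := by
          haveI := hZ.epi_g
          haveI := piEtPull_exact Scheme.etalePrecoverage W
          haveI : Epi ((BigSite.piEtPull Scheme.etalePrecoverage W).map Z.g) := inferInstance
          exact ((MorphismProperty.epimorphisms _).arrow_mk_iso_iff
            (((Functor.mapArrowFunctor _ _).mapIso (piIso K hPi W)).app (Arrow.mk Z.g))).mpr
              (inferInstanceAs (Epi ((BigSite.piEtPull Scheme.etalePrecoverage W).map Z.g)))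
        exact mono_map_f_of_epi (E K W) hY
      | k + 1, ih => exact mono_map_f_of_isZero (E K W) hY k (ih k (Nat.lt_succ_self k) W _ hQ)
    haveI := hm
    let B := (BigSite.piEtPull K V).obj I
    obtain ⟨H, m, hmm⟩ := exists_mono_push K p n B (fun i hi => ih i hi V I hI') (fun i _ =>
      (isZero_RpushBig p hI hI' i).of_iso
        ((BigSite.RpushBig Scheme.etalePrecoverage p (i + 1)).mapIso ((piIso K hPi V).app I)))
    haveI := hmm
    let e₀ := derivedSquareIso (E K S) (E K W) (BigSite.pullBig K U.hom AddCommGrpCat.{u + 1})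
      (fun I hI => haveI := hI; inferInstance) (BigSite.pullBig Scheme.etalePrecoverage U.hom AddCommGrpCat.{u + 1})
      (pullEps K U.hom) ((BigSite.piEtPull K S).obj F) (n + 1)
    let GW := (BigSite.pullBig Scheme.etalePrecoverage U.hom AddCommGrpCat.{u + 1}).obj G
    let μ : GW ⟶ (BigSite.pushBig Scheme.etalePrecoverage p AddCommGrpCat.{u + 1}).obj H :=
      e₀.hom ≫ ((E K W).rightDerived (n + 1)).map (pullPi K U.hom hPi F).hom ≫
        ((E K W).rightDerived (n + 1)).map ((BigSite.piEtPull K W).map α) ≫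
          ((E K W).rightDerived (n + 1)).map ((pushPi K p hPi).hom.app I) ≫ m
    haveI : Mono μ := inferInstance
    let e : (Over.map U.hom).obj (Over.mk (𝟙 W)) ≅ U :=
      Over.isoMk (Iso.refl _) (by change 𝟙 _ ≫ U.hom = 𝟙 _ ≫ U.hom; rfl)
    let y : GW.obj.obj (op (Over.mk (𝟙 W))) := G.obj.map e.hom.op x
    have hy : y = 0 := by
      refine eq_zero_of_mono p GW μ y ?_
      change G.obj.map ((Over.map U.hom).map (Over.homMk p : Over.mk p ⟶ Over.mk (𝟙 W))).op (G.obj.map e.hom.op x) = 0
      rw [← ConcreteCategory.comp_apply, ← Functor.map_comp, ← op_comp]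
      refine Eq.trans (congrArg (fun q : Over.mk (p ≫ U.hom) ⟶ U => G.obj.map q.op x)
        (Over.OverMorphism.ext ?_)) hx
      exact Category.comp_id p
    have h := congrArg (G.obj.map e.inv.op) hy
    change G.obj.map e.inv.op (G.obj.map e.hom.op x) = G.obj.map e.inv.op 0 at h
    rw [← ConcreteCategory.comp_apply, ← Functor.map_comp, ← op_comp, e.inv_hom_id, op_id,
      CategoryTheory.Functor.map_id, map_zero] at h
    exact h
  have hz : ∀ (U : Over S) (x : G.obj.obj (op U)), x = 0 := fun U x => by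
    obtain ⟨R, hR, hx⟩ := exists_sieve_zero K G (isZero_Lsh_R K S n _) x
    rw [GrothendieckTopology.mem_over_iff] at hR
    refine phTopology_le_sepTop G hsep _ (hK _ hR) U (𝟙 U.left) x fun Y k hk => hx k ?_
    obtain ⟨Y', g, h', hg, he⟩ := hk
    change k.left ≫ 𝟙 U.left = h' ≫ g.left at he
    have hh : h' ≫ Y'.hom = Y.hom := by
      rw [← Over.w g, ← Category.assoc, ← he, Category.comp_id]
      exact Over.w k
    let l : Y ⟶ Y' := Over.homMk h' hh
    have hl : k = l ≫ g := Over.OverMorphism.ext ((Category.comp_id _).symm.trans he)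
    rw [hl]
    exact R.downward_closed hg l
  rw [IsZero.iff_id_eq_zero]
  apply Sheaf.hom_ext
  ext U x
  exact (hz U.unop x).trans (hz U.unop _).symm

end Groth.Agent.BigPBC
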