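import Groth.Agent.RDerLib.LES
import Mathlib

/-!
# Dimension shifting for right derived functors
-/

set_option autoImplicit false
set_option backward.isDefEq.respectTransparency false
set_option backward.isDefEq.respectTransparency.types false
set_option linter.style.haveILetI false
set_option linter.unusedSectionVars false

open CategoryTheory CategoryTheory.Limits

noncomputable section

namespace Groth.Agent.BigPBC

section Abelian

variable {C : Type*} [Category C] [Abelian C]

/-- Composing with a monomorphism gives a monomorphism of cokernels. -/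
theorem mono_cokernel_map {X Y Y' : C} (a : X ⟶ Y) (k : Y ⟶ Y') [Mono k] :
    Mono (cokernel.map a (a ≫ k) (𝟙 X) k (by rw [Category.id_comp])) := by
  refine Preadditive.mono_of_cancel_zero _ fun {Z} x hx => ?_
  obtain ⟨Z₁, π₁, _, y, hy⟩ := surjective_up_to_refinements_of_epi (cokernel.π a) x
  have h1 : (y ≫ k) ≫ cokernel.π (a ≫ k) = 0 := by
    have h2 := congrArg (π₁ ≫ ·) hx
    simp only [← Category.assoc, hy, comp_zero] at h2
    simpa using h2
  obtain ⟨Z₂, π₂, _, z, hz⟩ := (ShortComplex.exact_of_g_is_cokernel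
    (ShortComplex.mk (a ≫ k) (cokernel.π (a ≫ k)) (cokernel.condition _))
    (cokernelIsCokernel _)).exact_up_to_refinements (y ≫ k) h1
  have h3 : π₂ ≫ y = z ≫ a := (cancel_mono k).1 (by simpa using hz)
  rw [← cancel_epi π₁, ← cancel_epi π₂, hy, ← Category.assoc, h3, Category.assoc, cokernel.condition,
    comp_zero, comp_zero, comp_zero]

end Abelian

section Derived

variable {C : Type*} [Category C] [Abelian C] [EnoughInjectives C] {D : Type*} [Category D] [Abelian D]
  (Φ : C ⥤ D) [Φ.Additive]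

/-- Shift along a short exact sequence with acyclic middle term. -/
theorem nonempty_shift {S : ShortComplex C} (hS : S.ShortExact) (n : ℕ)
    (h1 : IsZero ((Φ.rightDerived (n + 1)).obj S.X₂)) (h2 : IsZero ((Φ.rightDerived (n + 2)).obj S.X₂)) :
    Nonempty ((Φ.rightDerived (n + 1)).obj S.X₃ ≅ (Φ.rightDerived (n + 2)).obj S.X₁) := by
  let T := RDerLib.res hS
  haveI : Mono (T.delta Φ (n + 1) (n + 2) rfl) :=
    (RDerLib.exact₃ Φ T (n + 1) (n + 2) rfl).mono_g (h1.eq_of_src _ _)
  haveI : Epi (T.delta Φ (n + 1) (n + 2) rfl) :=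
    (RDerLib.exact₁ Φ T (n + 1) (n + 2) rfl).epi_f (h2.eq_of_tgt _ _)
  haveI := isIso_of_mono_of_epi (T.delta Φ (n + 1) (n + 2) rfl)
  exact ⟨asIso (T.delta Φ (n + 1) (n + 2) rfl)⟩

variable [PreservesFiniteLimits Φ]

/-- The first derived functor as a cokernel. -/
theorem nonempty_one {S : ShortComplex C} (hS : S.ShortExact)
    (h : IsZero ((Φ.rightDerived 1).obj S.X₂)) :
    Nonempty ((Φ.rightDerived 1).obj S.X₁ ≅ cokernel (Φ.map S.g)) := by
  let T := RDerLib.res hS
  haveI : Epi (T.delta Φ 0 1 rfl) := (RDerLib.exact₁ Φ T 0 1 rfl).epi_f (h.eq_of_tgt _ _)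
  have hc := (RDerLib.exact₃ Φ T 0 1 rfl).gIsCokernel
  let e0 : (Φ.rightDerived 0) ≅ Φ := Φ.rightDerivedZeroIsoSelf
  exact ⟨hc.coconePointUniqueUpToIso (cokernelIsCokernel _) ≪≫
    cokernel.mapIso ((Φ.rightDerived 0).map S.g) (Φ.map S.g) (e0.app _) (e0.app _) (e0.hom.naturality S.g)⟩

/-- The first derived functor vanishes when the last map stays epi. -/
theorem isZero_one {S : ShortComplex C} (hS : S.ShortExact) (h : IsZero ((Φ.rightDerived 1).obj S.X₂))
    [Epi (Φ.map S.g)] : IsZero ((Φ.rightDerived 1).obj S.X₁) := by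
  obtain ⟨e⟩ := nonempty_one Φ hS h
  exact (isZero_cokernel_of_epi (Φ.map S.g)).of_iso e

/-- If the first derived functor of the first term vanishes, the last map stays epi. -/
theorem epi_map_of_isZero {S : ShortComplex C} (hS : S.ShortExact) (h : IsZero ((Φ.rightDerived 1).obj S.X₁)) :
    Epi (Φ.map S.g) := by
  let T := RDerLib.res hS
  haveI : Epi ((Φ.rightDerived 0).map S.g) :=
    (RDerLib.exact₃ Φ T 0 1 rfl).epi_f (h.eq_of_tgt _ _)
  have e : Φ.map S.g = Φ.rightDerivedZeroIsoSelf.inv.app S.X₂ ≫ (Φ.rightDerived 0).map S.g ≫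
      Φ.rightDerivedZeroIsoSelf.hom.app S.X₃ := by
    rw [Φ.rightDerivedZeroIsoSelf.hom.naturality S.g, Iso.inv_hom_id_app_assoc]
  rw [e]
  infer_instance

/-- Higher derived functors of a left exact functor on a middle term. -/
theorem mono_map_f_of_epi {S : ShortComplex C} (hS : S.ShortExact) [Epi (Φ.map S.g)] :
    Mono ((Φ.rightDerived 1).map S.f) := by
  let T := RDerLib.res hS
  have hδ : T.delta Φ 0 1 rfl = 0 := by
    haveI : Epi ((Φ.rightDerived 0).map S.g) := by
      have e : (Φ.rightDerived 0).map S.g = Φ.rightDerivedZeroIsoSelf.hom.app S.X₂ ≫ Φ.map S.g ≫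
          Φ.rightDerivedZeroIsoSelf.inv.app S.X₃ := by
        rw [← Category.assoc, ← Φ.rightDerivedZeroIsoSelf.hom.naturality S.g, Category.assoc, Iso.hom_inv_id_app,
          Category.comp_id]
      rw [e]
      infer_instance
    rw [← cancel_epi ((Φ.rightDerived 0).map S.g), comp_zero]
    exact RDerLib.g_delta Φ T 0 1 rfl
  exact (RDerLib.exact₁ Φ T 0 1 rfl).mono_g hδ

/-- Injectivity of the map induced by a monomorphism. -/
theorem mono_map_f_of_isZero {S : ShortComplex C} (hS : S.ShortExact) (n : ℕ)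
    (h : IsZero ((Φ.rightDerived (n + 1)).obj S.X₃)) : Mono ((Φ.rightDerived (n + 2)).map S.f) :=
  (RDerLib.exact₁ Φ (RDerLib.res hS) (n + 1) (n + 2) rfl).mono_g (h.eq_of_src _ _)

/-- Cokernels inject when the first derived functor of the kernel vanishes. -/
theorem mono_cokernelComparison {X Y Z : C} (i : X ⟶ Y) (g : Y ⟶ Z) (w : i ≫ g = 0)
    (hex : (ShortComplex.mk i g w).Exact) [Mono i] (h : IsZero ((Φ.rightDerived 1).obj X)) :
    Mono (cokernelComparison g Φ) := by
  let p : Y ⟶ Abelian.image g := Abelian.factorThruImage g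
  have hp : i ≫ p = 0 := by
    rw [← cancel_mono (Abelian.image.ι g), Category.assoc, Abelian.image.fac, w, zero_comp]
  have hS : (ShortComplex.mk i p hp).ShortExact := by
    refine { exact := ?_ }
    let φ : ShortComplex.mk i p hp ⟶ ShortComplex.mk i g w :=
      { τ₁ := 𝟙 _, τ₂ := 𝟙 _, τ₃ := Abelian.image.ι g
        comm₁₂ := by simp
        comm₂₃ := (Category.id_comp g).trans (Abelian.image.fac g).symm }
    exact (ShortComplex.exact_iff_of_epi_of_isIso_of_mono φ).2 hex
  haveI : Epi (Φ.map p) := epi_map_of_isZero Φ hS h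
  let S' : ShortComplex C := ShortComplex.mk (Abelian.image.ι g) (cokernel.π g) (kernel.condition _)
  have hS' : S'.Exact := ShortComplex.exact_of_f_is_kernel _ (kernelIsKernel _)
  haveI : Mono S'.f := inferInstanceAs (Mono (kernel.ι (cokernel.π g)))
  have hS'' : (S'.map Φ).Exact := hS'.map_of_mono_of_preservesKernel Φ inferInstance inferInstance
  refine Preadditive.mono_of_cancel_zero _ fun {A} x hx => ?_
  obtain ⟨A₁, π₁, _, z, hz⟩ := surjective_up_to_refinements_of_epi (cokernel.π (Φ.map g)) x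
  have h1 : z ≫ Φ.map (cokernel.π g) = 0 := by
    rw [← π_comp_cokernelComparison g Φ, ← Category.assoc, ← hz, Category.assoc, hx, comp_zero]
  obtain ⟨A₂, π₂, _, y, hy⟩ := hS''.exact_up_to_refinements z h1
  obtain ⟨A₃, π₃, _, v, hv⟩ := surjective_up_to_refinements_of_epi (Φ.map p) y
  have h2 : (π₃ ≫ π₂) ≫ z = v ≫ Φ.map g := by
    refine (Category.assoc _ _ _).trans ((congrArg (π₃ ≫ ·) hy).trans ?_)
    change π₃ ≫ y ≫ Φ.map (Abelian.image.ι g) = _
    rw [← Category.assoc, hv, Category.assoc, ← Φ.map_comp, Abelian.image.fac]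
  rw [← cancel_epi π₁, hz, ← cancel_epi (π₃ ≫ π₂), ← Category.assoc, h2, Category.assoc, cokernel.condition,
    comp_zero, comp_zero, comp_zero]

end Derived

section Compare

variable {A A' B B' : Type*} [Category A] [Abelian A] [EnoughInjectives A] [Category A'] [Abelian A']
  [EnoughInjectives A'] [Category B] [Abelian B] [Category B'] [Abelian B']
  (Ψ : A' ⥤ B') [Ψ.Additive] [PreservesFiniteLimits Ψ] (Φ : A ⥤ B) [Φ.Additive] [PreservesFiniteLimits Φ]
  (L : A' ⥤ A) [L.Additive] [PreservesFiniteLimits L] [PreservesFiniteColimits L]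
  (L' : B' ⥤ B) [L'.Additive] [PreservesFiniteLimits L'] [PreservesFiniteColimits L']
  (e : Ψ ⋙ L' ≅ L ⋙ Φ) (P : A' → Prop)
  (hP : ∀ F, P F → ∃ S : ShortComplex A', ∃ _ : S.ShortExact, Nonempty (S.X₁ ≅ F) ∧ P S.X₃ ∧
    ∀ n, IsZero ((Ψ.rightDerived (n + 1)).obj S.X₂) ∧ IsZero ((Φ.rightDerived (n + 1)).obj (L.obj S.X₂)))

include e hP in
/-- Derived functors of two functors intertwined by exact functors agree on a class with common acyclic
embeddings. -/
theorem nonempty_compare (q : ℕ) : ∀ F, P F →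
    Nonempty (L'.obj ((Ψ.rightDerived q).obj F) ≅ (Φ.rightDerived q).obj (L.obj F)) := by
  induction q with
  | zero =>
    exact fun F _ => ⟨L'.mapIso (Ψ.rightDerivedZeroIsoSelf.app F) ≪≫ e.app F ≪≫
      (Φ.rightDerivedZeroIsoSelf.app _).symm⟩
  | succ q ih =>
    intro F hF
    obtain ⟨S, hS, ⟨a⟩, h3, hz⟩ := hP F hF
    have hS' : (S.map L).ShortExact := hS.map_of_exact L
    suffices h : Nonempty (L'.obj ((Ψ.rightDerived (q + 1)).obj S.X₁) ≅
        (Φ.rightDerived (q + 1)).obj (L.obj S.X₁)) by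
      obtain ⟨b⟩ := h
      exact ⟨L'.mapIso ((Ψ.rightDerived _).mapIso a.symm) ≪≫ b ≪≫ (Φ.rightDerived _).mapIso (L.mapIso a)⟩
    cases q with
    | zero =>
      obtain ⟨c⟩ := nonempty_one Ψ hS (hz 0).1
      obtain ⟨c'⟩ := nonempty_one Φ hS' (hz 0).2
      exact ⟨L'.mapIso c ≪≫ PreservesCokernel.iso L' (Ψ.map S.g) ≪≫
        cokernel.mapIso _ _ (e.app S.X₂) (e.app S.X₃) (e.hom.naturality S.g) ≪≫ c'.symm⟩
    | succ n =>
      obtain ⟨c⟩ := nonempty_shift Ψ hS n (hz n).1 (hz (n + 1)).1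
      obtain ⟨c'⟩ := nonempty_shift Φ hS' n (hz n).2 (hz (n + 1)).2
      obtain ⟨b⟩ := ih S.X₃ h3
      exact ⟨L'.mapIso c.symm ≪≫ b ≪≫ c'⟩

end Compare

end Groth.Agent.BigPBC
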