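import Groth.Agent.BigPBC.Descent
import Groth.Agent.BigPBC.Conseq
import Groth.Agent.BigSiteLib.PiTop
import Groth.Agent.BigSiteLib.AcyclicCompare
import Mathlib

/-!
# The ph, h and fppf sites
-/

set_option autoImplicit false
set_option backward.isDefEq.respectTransparency false
set_option backward.isDefEq.respectTransparency.types false
set_option backward.defeqAttrib.useBackward true
set_option linter.style.haveILetI false
set_option maxHeartbeats 1000000

universe u

open CategoryTheory CategoryTheory.Limits AlgebraicGeometry Opposite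

noncomputable section

namespace Groth.Agent.BigPBC

open BigSiteLib

theorem epsCont_of_etale_le {K : Precoverage Scheme.{u}}
    (h : Scheme.etalePrecoverage ≤ K.toGrothendieck.toPrecoverage) (S : Scheme.{u}) :
    BigSite.EpsCont Scheme.etalePrecoverage K S where
  op_comp_isSheaf_of_types G := Presieve.isSheaf_of_le _
    (fun T R hR => by
      rw [GrothendieckTopology.mem_over_iff] at hR ⊢
      exact (Precoverage.toGrothendieck_le_iff_le_toPrecoverage.mpr h) _ hR)
    ((isSheaf_iff_isSheaf_of_type _ _).1 G.property)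

theorem aEtCont_of_etale_le {K : Precoverage Scheme.{u}}
    (h : Scheme.etalePrecoverage ≤ K.toGrothendieck.toPrecoverage) (S : Scheme.{u}) : BigSite.AEtCont K S where
  op_comp_isSheaf_of_types G :=
    (inferInstance : BigSite.AEtCont Scheme.etalePrecoverage S).op_comp_isSheaf_of_types
      ⟨G.obj, (isSheaf_iff_isSheaf_of_type _ _).2 (Presieve.isSheaf_of_le _
        (fun T R hR => by
          rw [GrothendieckTopology.mem_over_iff] at hR ⊢
          exact (Precoverage.toGrothendieck_le_iff_le_toPrecoverage.mpr h) _ hR)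
        ((isSheaf_iff_isSheaf_of_type _ _).1 G.property))⟩

instance aEtCont_ph (S : Scheme.{u}) : BigSite.AEtCont HTop.phPrecoverage S :=
  aEtCont_of_etale_le etale_le_phPrecoverage S

instance epsCont_ph (S : Scheme.{u}) : BigSite.EpsCont Scheme.etalePrecoverage HTop.phPrecoverage S :=
  epsCont_of_etale_le etale_le_phPrecoverage S

instance aEtCont_h (S : Scheme.{u}) : BigSite.AEtCont HTop.hPrecoverage S :=
  aEtCont_of_etale_le etale_le_hPrecoverage S

instance epsCont_h (S : Scheme.{u}) : BigSite.EpsCont Scheme.etalePrecoverage HTop.hPrecoverage S :=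
  epsCont_of_etale_le etale_le_hPrecoverage S

/-- The h topology is coarser than the ph topology. -/
theorem hTopology_le_phTopology : HTop.hTopology.{u} ≤ HTop.phTopology := by
  refine Precoverage.toGrothendieck_le_iff_le_toPrecoverage.mpr fun T R hR => ?_
  rw [GrothendieckTopology.mem_toPrecoverage_iff]
  obtain ⟨E, hE⟩ := hR
  exact Precoverage.generate_mem_toGrothendieck ((HTop.presieve₀_mem_phPrecoverage_iff E).mpr
    (HTopVPh.isPhCover_of_isVCover hE.1 hE.2))

theorem eAcyc_ph {S : Scheme.{u}} (F : EtCoh.Ab S) (hF : Tor F) :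
    EAcyc HTop.phPrecoverage ((BigSite.piEtPull HTop.phPrecoverage S).obj F) := fun n =>
  isZero_R_pi HTop.phPrecoverage (fun S F => isSheaf_Jph_Pi (S := S) F) le_rfl n S F hF

theorem eAcyc_h {S : Scheme.{u}} (F : EtCoh.Ab S) (hF : Tor F) :
    EAcyc HTop.hPrecoverage ((BigSite.piEtPull HTop.hPrecoverage S).obj F) := fun n =>
  isZero_R_pi HTop.hPrecoverage (fun S F => isSheaf_Jh_Pi (S := S) F) hTopology_le_phTopology n S F hF

theorem eAcyc_fppf {S : Scheme.{u}} (F : EtCoh.Ab S) :
    EAcyc Scheme.fppfPrecoverage ((BigSite.piEtPull Scheme.fppfPrecoverage S).obj F) := fun n =>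
  (isZero_rightDerived_of_class (E Scheme.fppfPrecoverage S) Acyc
    (fun X hX hI h => haveI := hI; acyc_step hX h) _ (acyc_piF F) n).of_iso
      (((E Scheme.fppfPrecoverage S).rightDerived (n + 1)).mapIso ((piFIso S).app F))

end Groth.Agent.BigPBC
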