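import Groth.Agent.BigPBC.Vanish
import Groth.Agent.BigSiteLib.Shriek
import Groth.Agent.BigSiteLib.EtExact
import Groth.Agent.SiteCoh.Basic
import Groth.Prelude.Def_HTop
import Mathlib

/-!
# Comparison of the big étale site with a finer topology
-/

set_option autoImplicit false
set_option backward.isDefEq.respectTransparency false
set_option backward.isDefEq.respectTransparency.types false
set_option backward.defeqAttrib.useBackward true
set_option linter.style.haveILetI false
set_option linter.unusedSectionVars false
set_option linter.auxLemma false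
set_option maxHeartbeats 1000000

universe u

open CategoryTheory CategoryTheory.Limits AlgebraicGeometry Opposite

noncomputable section

namespace Groth.Agent.BigPBC

open BigSiteLib

variable (K : Precoverage Scheme.{u}) [∀ S : Scheme.{u}, BigSite.AEtCont K S]
  [∀ S : Scheme.{u}, BigSite.EpsCont Scheme.etalePrecoverage K S]

/-- Sheaves for the finer topology as sheaves on the big étale site. -/
abbrev E (S : Scheme.{u}) : BigSite.Ab K S ⥤ BigSite.Ab Scheme.etalePrecoverage S :=
  BigSite.eps Scheme.etalePrecoverage K S AddCommGrpCat.{u + 1}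

/-- It is fully faithful. -/
def fullyFaithfulE (S : Scheme.{u}) : (E K S).FullyFaithful where
  preimage {F G} φ := ⟨{ app := fun U => φ.hom.app U, naturality := fun _ _ g => φ.hom.naturality g }⟩
  map_preimage _ := rfl
  preimage_map _ := rfl

instance (S : Scheme.{u}) : (E K S).Full := (fullyFaithfulE K S).full

instance (S : Scheme.{u}) : (E K S).Faithful := (fullyFaithfulE K S).faithful

/-- Sheafification for the finer topology. -/
abbrev Lsh (S : Scheme.{u}) : BigSite.Ab Scheme.etalePrecoverage S ⥤ BigSite.Ab K S :=
  sheafToPresheaf _ _ ⋙ presheafToSheaf (QuotSh.J K S) AddCommGrpCat.{u + 1}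

/-- The adjunction. -/
def LshAdj (S : Scheme.{u}) : Lsh K S ⊣ E K S :=
  Adjunction.restrictFullyFaithful (iC := sheafToPresheaf (QuotSh.J Scheme.etalePrecoverage S) AddCommGrpCat.{u + 1})
    (iD := 𝟭 (BigSite.Ab K S)) (sheafificationAdjunction (QuotSh.J K S) AddCommGrpCat.{u + 1})
    (fullyFaithfulSheafToPresheaf _ _) (Functor.FullyFaithful.id _)
    (NatIso.ofComponents (fun F => Iso.refl _) (by
      intro F G φ
      exact (Category.comp_id _).trans (Category.id_comp _).symm))
    (NatIso.ofComponents (fun G => Iso.refl _) (by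
      intro F G φ
      exact (Category.comp_id _).trans (Category.id_comp _).symm))

theorem E_preservesFiniteLimits (S : Scheme.{u}) : PreservesFiniteLimits (E K S) :=
  ⟨fun _ _ _ => (LshAdj K S).rightAdjoint_preservesLimits.preservesLimitsOfShape⟩

instance (S : Scheme.{u}) : PreservesFiniteLimits (E K S) := E_preservesFiniteLimits K S

instance (S : Scheme.{u}) : PreservesFiniteLimits (Lsh K S) := comp_preservesFiniteLimits _ _

instance (S : Scheme.{u}) : PreservesFiniteColimits (Lsh K S) :=
  ⟨fun _ _ _ => (LshAdj K S).leftAdjoint_preservesColimits.preservesColimitsOfShape⟩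

instance (S : Scheme.{u}) : (Lsh K S).Additive := (LshAdj K S).left_adjoint_additive

instance injective_E (S : Scheme.{u}) (I : BigSite.Ab K S) [Injective I] : Injective ((E K S).obj I) :=
  haveI : (Lsh K S).PreservesMonomorphisms := inferInstance
  Injective.injective_of_adjoint (LshAdj K S) I

/-- Higher derived functors of the forgetful functor sheafify to zero. -/
theorem isZero_Lsh_R (S : Scheme.{u}) (n : ℕ) : ∀ A : BigSite.Ab K S,
    IsZero ((Lsh K S).obj (((E K S).rightDerived (n + 1)).obj A)) := by
  induction n with
  | zero =>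
    intro A
    let X := SiteCoh.embedSeq A
    haveI : Injective X.X₂ := inferInstanceAs (Injective (Injective.under A))
    obtain ⟨e⟩ := nonempty_one (E K S) (SiteCoh.embedSeq_shortExact A)
      (Functor.isZero_rightDerived_obj_injective_succ _ _ _)
    haveI := (SiteCoh.embedSeq_shortExact A).epi_g
    haveI : IsIso (LshAdj K S).counit := Adjunction.counit_isIso_of_R_fully_faithful _
    haveI : Epi ((Lsh K S).map ((E K S).map X.g)) := by
      have h : (Lsh K S).map ((E K S).map X.g) =
          (LshAdj K S).counit.app X.X₂ ≫ X.g ≫ inv ((LshAdj K S).counit.app X.X₃) := by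
        rw [← Category.assoc, IsIso.eq_comp_inv]
        exact (LshAdj K S).counit.naturality X.g
      rw [h]
      infer_instance
    exact (isZero_cokernel_of_epi ((Lsh K S).map ((E K S).map X.g))).of_iso
      ((Lsh K S).mapIso e ≪≫ PreservesCokernel.iso (Lsh K S) ((E K S).map X.g))
  | succ n ih =>
    intro A
    haveI : Injective (SiteCoh.embedSeq A).X₂ := inferInstanceAs (Injective (Injective.under A))
    obtain ⟨e⟩ := nonempty_shift (E K S) (SiteCoh.embedSeq_shortExact A) n
      (Functor.isZero_rightDerived_obj_injective_succ _ _ _) (Functor.isZero_rightDerived_obj_injective_succ _ _ _)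
    exact (ih _).of_iso ((Lsh K S).mapIso e.symm)

/-- Sections of a sheaf with zero sheafification vanish locally. -/
theorem exists_sieve_zero {S : Scheme.{u}} (G : BigSite.Ab Scheme.etalePrecoverage S) (h : IsZero ((Lsh K S).obj G))
    {U : Over S} (x : G.obj.obj (op U)) :
    ∃ R ∈ QuotSh.J K S U, ∀ ⦃Y : Over S⦄ (k : Y ⟶ U), R.arrows k → G.obj.map k.op x = 0 := by
  let η := CategoryTheory.toSheafify (QuotSh.J K S) G.obj
  have hsub : Subsingleton (((Lsh K S).obj G).obj.obj (op U)) :=
    AddCommGrpCat.subsingleton_of_isZero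
      ((sheafToPresheaf _ _ ⋙ (evaluation _ _).obj (op U)).map_isZero h)
  have e : η.app (op U) x = η.app (op U) (0 : G.obj.obj (op U)) := @Subsingleton.elim _ hsub _ _
  refine ⟨_, Presheaf.equalizerSieve_mem (QuotSh.J K S) η x 0 e, fun Y k hk => ?_⟩
  exact (show G.obj.map k.op x = G.obj.map k.op 0 from hk).trans (map_zero _)

section Pi

variable (hPi : ∀ (S : Scheme.{u}) (F : EtCoh.Ab S), Presheaf.IsSheaf (QuotSh.J K S) (Pi F).obj)

/-- The inverse image as a sheaf for the finer topology. -/
def piK (S : Scheme.{u}) : EtCoh.Ab S ⥤ BigSite.Ab K S :=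
  ObjectProperty.lift _ (BigSite.piEtPull Scheme.etalePrecoverage S ⋙ sheafToPresheaf _ _) (hPi S)

/-- It is left adjoint to restriction. -/
def piKAdj (S : Scheme.{u}) : piK K hPi S ⊣ BigSite.resEt K S :=
  Adjunction.restrictFullyFaithful (iC := 𝟭 (EtCoh.Ab S)) (iD := E K S)
    (BigSite.piEtAdj Scheme.etalePrecoverage S) (Functor.FullyFaithful.id _) (fullyFaithfulE K S)
    (NatIso.ofComponents (fun F => Iso.refl _) (by
      intro F G φ
      exact (Category.comp_id _).trans (Category.id_comp _).symm))
    (NatIso.ofComponents (fun G => Iso.refl _) (by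
      intro F G φ
      exact (Category.comp_id _).trans (Category.id_comp _).symm))

include hPi in
/-- The inverse image for the finer topology is the inverse image to the big étale site. -/
theorem nonempty_piIso (S : Scheme.{u}) : Nonempty (BigSite.piEtPull K S ⋙ E K S ≅
    BigSite.piEtPull Scheme.etalePrecoverage S) :=
  ⟨Functor.isoWhiskerRight ((BigSite.piEtAdj K S).leftAdjointUniq (piKAdj K hPi S)) (E K S) ≪≫
    NatIso.ofComponents (fun F => Iso.refl _) (by
      intro F G φ
      exact (Category.comp_id _).trans (Category.id_comp _).symm)⟩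

/-- The inverse image for the finer topology, on the big étale site. -/
def piIso (S : Scheme.{u}) : BigSite.piEtPull K S ⋙ E K S ≅ BigSite.piEtPull Scheme.etalePrecoverage S :=
  (nonempty_piIso K hPi S).some

end Pi

variable {T S : Scheme.{u}} (f : T ⟶ S)

/-- Direct images commute with the forgetful functors. -/
def pushEps : BigSite.pushBig K f AddCommGrpCat.{u + 1} ⋙ E K S ≅
    E K T ⋙ BigSite.pushBig Scheme.etalePrecoverage f AddCommGrpCat.{u + 1} :=
  NatIso.ofComponents (fun F => Iso.refl _) (by
    intro F G φ
    exact (Category.comp_id _).trans (Category.id_comp _).symm)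

/-- Restrictions commute with the forgetful functors. -/
def pullEps : E K S ⋙ BigSite.pullBig Scheme.etalePrecoverage f AddCommGrpCat.{u + 1} ≅
    BigSite.pullBig K f AddCommGrpCat.{u + 1} ⋙ E K T :=
  NatIso.ofComponents (fun F => Iso.refl _) (by
    intro F G φ
    exact (Category.comp_id _).trans (Category.id_comp _).symm)

/-- Restriction to the small site through the big étale site. -/
def resEps (S : Scheme.{u}) : E K S ⋙ BigSite.resEt Scheme.etalePrecoverage S ≅ BigSite.resEt K S :=
  NatIso.ofComponents (fun F => Iso.refl _) (by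
    intro F G φ
    exact (Category.comp_id _).trans (Category.id_comp _).symm)

variable (hPi : ∀ (S : Scheme.{u}) (F : EtCoh.Ab S), Presheaf.IsSheaf (QuotSh.J K S) (Pi F).obj)

/-- Direct images along proper morphisms commute with inverse images. -/
def pushPi [IsProper f] : EtCoh.push f ⋙ BigSite.piEtPull K S ≅
    BigSite.piEtPull K T ⋙ BigSite.pushBig K f AddCommGrpCat.{u + 1} :=
  Functor.fullyFaithfulCancelRight (E K S) (Functor.associator _ _ _ ≪≫
    Functor.isoWhiskerLeft _ (piIso K hPi S) ≪≫ thetaIso f ≪≫
    Functor.isoWhiskerRight (piIso K hPi T).symm _ ≪≫ Functor.associator _ _ _ ≪≫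
    Functor.isoWhiskerLeft _ (pushEps K f).symm ≪≫ (Functor.associator _ _ _).symm)

/-- Restrictions of inverse images. -/
def pullPi (F : EtCoh.Ab S) : (BigSite.pullBig K f AddCommGrpCat.{u + 1}).obj ((BigSite.piEtPull K S).obj F) ≅
    (BigSite.piEtPull K T).obj ((EtCoh.pull f).obj F) :=
  (fullyFaithfulE K T).preimageIso (((pullEps K f).app _).symm ≪≫
    (BigSite.pullBig Scheme.etalePrecoverage f AddCommGrpCat.{u + 1}).mapIso ((piIso K hPi S).app F) ≪≫
    (piPullIso f).app F ≪≫ ((piIso K hPi T).app _).symm)

end Groth.Agent.BigPBC
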