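import Groth.Agent.BigPBC.Shift
import Groth.Agent.BigSiteLib.PiProper
import Groth.Agent.BigSiteLib.Compare
import Groth.Agent.EtPBC.AllBC
import Groth.Agent.EtAcycX.CompBC
import Groth.Agent.EtPullExact.Basic
import Groth.Agent.S6686

/-!
# Proper base change on big étale sites
-/

set_option autoImplicit false
set_option backward.isDefEq.respectTransparency false
set_option backward.isDefEq.respectTransparency.types false
set_option backward.defeqAttrib.useBackward true
set_option linter.style.haveILetI false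
set_option linter.unusedSectionVars false
set_option linter.auxLemma false
set_option maxHeartbeats 1000000

universe u

open CategoryTheory CategoryTheory.Limits AlgebraicGeometry Opposite

noncomputable section

namespace Groth.Agent.BigPBC

open BigSiteLib

/-- torsion sheaves -/
abbrev Tor {X : Scheme.{u}} (F : EtCoh.Ab X) : Prop := EtAcyc.IsLTorsion Set.univ F

theorem push_preservesFiniteLimits {X Y : Scheme.{u}} (f : X ⟶ Y) : PreservesFiniteLimits (EtCoh.push f) :=
  haveI := (EtCoh.pullPushAdj f).rightAdjoint_preservesLimits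
  PreservesLimits.preservesFiniteLimits _

theorem pushBig_preservesFiniteLimits (K : Precoverage Scheme.{u}) {X Y : Scheme.{u}} (f : X ⟶ Y) :
    PreservesFiniteLimits (BigSite.pushBig K f AddCommGrpCat.{u + 1}) :=
  ⟨fun _ _ _ => (BigSite.bigAdj K f AddCommGrpCat.{u + 1}).rightAdjoint_preservesLimits.preservesLimitsOfShape⟩

theorem piEtPull_exact (K : Precoverage Scheme.{u}) (S : Scheme.{u}) [BigSite.AEtCont K S] :
    PreservesFiniteColimits (BigSite.piEtPull K S) :=
  ⟨fun _ _ _ => (BigSite.piEtAdj K S).leftAdjoint_preservesColimits.preservesColimitsOfShape⟩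

theorem piEtPull_additive (K : Precoverage Scheme.{u}) (S : Scheme.{u}) [BigSite.AEtCont K S] :
    (BigSite.piEtPull K S).Additive :=
  (BigSite.piEtAdj K S).left_adjoint_additive

/-- Every torsion sheaf embeds, with torsion cokernel, in a torsion sheaf without higher Čech cohomology. -/
theorem exists_seq {X : Scheme.{u}} {F : EtCoh.Ab X} (hF : Tor F) :
    ∃ S : ShortComplex (EtCoh.Ab X), S.ShortExact ∧ Nonempty (S.X₁ ≅ F) ∧ Tor S.X₃ ∧
      EtColimH.CAc S.X₂ ∧ Tor S.X₂ := by
  obtain ⟨I, e, he, hI, hI'⟩ := EtAcycX.exists_hullL Set.univ hF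
  exact ⟨ShortComplex.mk e (cokernel.π e) (cokernel.condition e),
    { exact := ShortComplex.exact_of_g_is_cokernel _ (cokernelIsCokernel _) }, ⟨Iso.refl _⟩,
    EtAcycX.isLTorsion_of_epi Set.univ (cokernel.π e) hI', hI, hI'⟩

variable {T S : Scheme.{u}} (f : T ⟶ S) [IsProper f]

/-- Vanishing of higher direct images after every base change. -/
theorem isZero_Rpush_pull {T' S' : Scheme.{u}} (f' : T' ⟶ S') (g' : T' ⟶ T) (g : S' ⟶ S)
    (sq : IsPullback g' f' f g) {I : EtCoh.Ab T} (h : EtColimH.CAc I) (hI : Tor I) (n : ℕ) :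
    IsZero ((EtCoh.Rpush f' (n + 1)).obj ((EtCoh.pull g').obj I)) := by
  haveI := EtPullExact.pull_preservesFiniteLimits g'
  haveI := EtPBC.isIso_bcQ_proper f g f' g' sq I hI (n + 1)
  haveI : (EtCoh.pull g).Additive := (EtCoh.pullPushAdj g).left_adjoint_additive
  exact IsZero.of_iso ((EtCoh.pull g).map_isZero (EtColimH.isZero_rpush_of_cac f n I h))
    (asIso (EtBC.bcQ f g f' g' sq.w (n + 1) I)).symm

/-- Higher direct images on the big étale site of acyclic torsion sheaves vanish. -/
theorem isZero_RpushBig {I : EtCoh.Ab T} (h : EtColimH.CAc I) (hI : Tor I) (n : ℕ) :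
    IsZero ((BigSite.RpushBig Scheme.etalePrecoverage f (n + 1)).obj (Pi I)) := by
  let G := (BigSite.RpushBig Scheme.etalePrecoverage f (n + 1)).obj (Pi I)
  have hz : ∀ U : Over S, IsZero (G.obj.obj (op U)) := fun U => by
    obtain ⟨e⟩ := Groth.Agent.S6686.result f U.hom _ _ (IsPullback.of_hasPullback U.hom f).flip (Pi I) (n + 1)
    have h0 : IsZero ((EtCoh.Rpush (pullback.fst U.hom f) (n + 1)).obj
        ((BigSite.resEtAlong Scheme.etalePrecoverage (pullback.snd U.hom f)).obj (Pi I))) :=
      (isZero_Rpush_pull f _ _ U.hom (IsPullback.of_hasPullback U.hom f).flip h hI n).of_iso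
        ((EtCoh.Rpush (pullback.fst U.hom f) (n + 1)).mapIso (resPullIso (pullback.snd U.hom f) I))
    refine IsZero.of_iso (Functor.map_isZero ((sheafToPresheaf _ _) ⋙ (evaluation _ _).obj
      (op (EtCoh.top U.left))) (h0.of_iso e)) ?_
    exact G.obj.mapIso (Iso.op (Over.isoMk (Iso.refl _) (by change 𝟙 _ ≫ U.hom = 𝟙 _ ≫ U.hom; rfl) :
      (Over.map U.hom).obj ((EtFppf.a U.left).obj (EtCoh.top U.left)) ≅ U))
  rw [IsZero.iff_id_eq_zero]
  apply Sheaf.hom_ext
  ext U x
  exact congrArg (fun q : G.obj.obj U ⟶ G.obj.obj U => q x) ((hz U.unop).eq_of_src (𝟙 _) 0)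

/-- The comparison for direct images as a natural isomorphism. -/
def thetaIso : EtCoh.push f ⋙ BigSite.piEtPull Scheme.etalePrecoverage S ≅
    BigSite.piEtPull Scheme.etalePrecoverage T ⋙ BigSite.pushBig Scheme.etalePrecoverage f AddCommGrpCat.{u + 1} :=
  haveI : ∀ G, IsIso (theta f G) := fun G => isIso_theta (geomFibreGen_of_isProper G)
  NatIso.ofComponents (fun G => asIso (theta f G)) (fun {G G'} φ => by
    change (BigSite.piEtPull Scheme.etalePrecoverage S).map ((EtCoh.push f).map φ) ≫ theta f G' =
      theta f G ≫ (BigSite.pushBig Scheme.etalePrecoverage f AddCommGrpCat.{u + 1}).map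
        ((BigSite.piEtPull Scheme.etalePrecoverage T).map φ)
    apply ((BigSite.piEtAdj Scheme.etalePrecoverage S).homEquiv _ _).injective
    rw [Adjunction.homEquiv_naturality_left, Adjunction.homEquiv_naturality_right]
    simp only [theta, Equiv.apply_symm_apply, Category.assoc]
    have h1 := (pushSquareIso f).hom.naturality ((BigSite.piEtPull Scheme.etalePrecoverage T).map φ)
    have h2 := congrArg (EtCoh.push f).map ((BigSite.piEtAdj Scheme.etalePrecoverage T).unit.naturality φ)
    simp only [Functor.map_comp, Functor.id_map, Functor.comp_map] at h1 h2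
    rw [← h1, ← Category.assoc, h2, Category.assoc])

/-- **Proper base change on big étale sites.** -/
theorem nonempty_bigEt (F : EtCoh.Ab T) (hF : Tor F) (q : ℕ) :
    Nonempty ((BigSite.piEtPull Scheme.etalePrecoverage S).obj ((EtCoh.Rpush f q).obj F) ≅
      (BigSite.RpushBig Scheme.etalePrecoverage f q).obj
        ((BigSite.piEtPull Scheme.etalePrecoverage T).obj F)) := by
  haveI := push_preservesFiniteLimits f
  haveI := pushBig_preservesFiniteLimits Scheme.etalePrecoverage f
  haveI := piEtPull_exact Scheme.etalePrecoverage S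
  haveI := piEtPull_exact Scheme.etalePrecoverage T
  haveI := piEtPull_additive Scheme.etalePrecoverage S
  haveI := piEtPull_additive Scheme.etalePrecoverage T
  refine nonempty_compare (EtCoh.push f) (BigSite.pushBig Scheme.etalePrecoverage f AddCommGrpCat.{u + 1})
    (BigSite.piEtPull Scheme.etalePrecoverage T) (BigSite.piEtPull Scheme.etalePrecoverage S) (thetaIso f) Tor
    (fun F hF => ?_) q F hF
  obtain ⟨X, hX, e, h3, hc, h2⟩ := exists_seq hF
  exact ⟨X, hX, e, h3, fun n => ⟨EtColimH.isZero_rpush_of_cac f n _ hc, isZero_RpushBig f hc h2 n⟩⟩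

end Groth.Agent.BigPBC
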